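import Cfsg.Agent.CosetEnum.MU43.LData

/-! Certificate of a coset enumeration (generated data, owner: helper28). -/

set_option autoImplicit false
set_option maxRecDepth 1000000

namespace Cfsg.Agent.CosetEnum.MU43L

def ck0 : CK := .cons 32 22 0x1c8064062039134001514480017a8044840017a806402200900480289a0000cd0048064052031024d48003ad001900410088064012000e401202101480c4032011780006da031000900c80a402200420210148008806400202101e00015a8000802403201100c80008044002009004804400261c000c2800594000ee8024438001150008000800400200400200100080040020010008004 ( .cons 32 6 0x2050c002f6803480440f20590348226a4000228064072071028bc00004501881a401841030e00011400240720610ac0007740b2860008150c000c68001f20003e60007caa40001e8044000f100028a0003c403c00011500082ac0000f4001350184022000748000e900026a78000b7a05908600011668000c681240020002f10144002f100c668001868005b201481440010d00021a000b640016c8000480027a0108004900042405903c8084012000828062041000bb405100210680004d40520840010280e66800036802480188104000d50001a202080a4000d10001a2000344071000801c802481a668000228004062041000394240001161c0007280a4000ad3c00053d014cd0002b50006240072061a900061a021020908002fd0108084032059 ( .cons 32 10 0x31068000254001480007440a90007a4000f48152000c280020c380026d008ab0002e50000be80017d010e0006740020015a80019500032a0006c4069001420590488286a40003680661c0015a8000a18005a501c82661c0029a8430000da008200138c0920990448264002a50164032029000a1400142812201220a9018810e000db401440520018448002b68084014408207904081e4142009201120190148244000110008e40890008e4001e400004c4000988082000988001310002620004c403902480e410203904081c4102099018b280026d01486500036a011018808407200f2031020808405201901882240d20d0000aa8003320000b480016901c40e20913400022a00c2ac0001340f2ca0001340e203c0002f5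 ( .cons 32 13 0x59014824401c40a20b101480c41920c1870009ea00a201905c808402640c20111340007b4022001440e20062000044a044818402206900a90001041420c13400075b52000ff4002290004520001148002290900030d000bc00045504081640f2015201902c81e40a204100081840320b901080248003ea0007c4000f880058800482c40020219a000aca42001334002650004ca000754000ea8002650004ca0008560004da01828600025409352000d7401c4002080c4030404204800172800382000a440014880c2000e08001c1001c8104218001ed03481040006105c81e40c20072039030802c80e40284162000de80620005082640b2041 ( .cons 32 9 0x6680026a82c40086000c34002079000ae407900f912000a8aca000354062048000f280009f40013e801c415334000eb40e2ac00033403c448002da80348286680025686500019a00e205100000002c90002903c80029000d20d903c82040320e904cd48004ad00497800068a0d10ac000354002cd00059a0108324082059001c20c9210005ca0002c8184172680015d40144218004d5024000b5400200006100d901480049a00093403105c8000008816410207100182860010f401a40004420489080011500880046a0008d401420b1005903c800097603905c8000af40d1 ( .cons 32 5 0x112099000d2041000721e00029a8a900054a03c0001350ca0004d5e00009eb280013d4300023a1580008a8021c0009ac380013d0048001b28009904c82461c002ceb280012502080ca0016941a00045d001220002084300022a01820e10348068a180018501080000108000e200901880c4002c10000b0400a9000a8a051010c001d6800c10148005aaa90009ea08900a121000afa039030804487800077a0b906081e40c201820c90039040800a104c83242020010409a00011d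 ( .cons 32 32 0x520b100000d9001920001880004200104026401240000eb4001d68003ad00075a04c82041821210288003103c802080001202903481640f20052119000836404202903481a4028400440000010812400188384012401040f200000001901481a40264102009088800880c4122091007107c800400000015205104482241320c904c8264132018202906c82041c2111004900c80000208028800110061014816401c4000003c80388084006881a41920042001e401041a200720d10048040816416205102c80508000000e200000000e20000000110788000007101080a400000021000f207900390003205103c80071007900002c82640d209900c900e902881c408208106c81e401c40420000003880a410200324072109 ( .cons 16 15 0x10803c8007100a90000000004200264082000e4000e10508000e207105c820406209100b107c82840e209904083a4222000000004200b20000003882e41d202107880131000000001620f9003107481a40007100000003c83640d205904c828400029009904c806c8054800062000129 ( .nil ))))))))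

theorem part0 : chunks P L 240 ck0 0 112 = true := by decide +kernel

end Cfsg.Agent.CosetEnum.MU43L
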